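import Mathlib

set_option autoImplicit false

/-! Automizers of subgroups of an abelian Sylow subgroup (Burnside). -/

namespace Cfsg.Agent.Automizer

open scoped Pointwise

variable {G : Type*} [Group G]

theorem le_centralizer_of_comm {P Q : Subgroup G} (hP : IsMulCommutative P) (hQ : Q ≤ P) :
    P ≤ Subgroup.centralizer (Q : Set G) := fun x hx => by
  rw [Subgroup.mem_centralizer_iff]
  intro y hy
  have := hP.is_comm.comm (⟨y, hQ hy⟩ : P) ⟨x, hx⟩
  exact congrArg Subtype.val this

/-- In a group with an abelian Sylow subgroup `P`, the normalizer of `Q ≤ P` is generated by the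
elements normalizing `P` as well and the centralizer of `Q`. -/
theorem normalizer_eq_inf_sup_centralizer [Finite G] {p : ℕ} [Fact p.Prime] (P : Sylow p G)
    (hP : IsMulCommutative (P : Subgroup G)) (Q : Subgroup G) (hQ : Q ≤ (P : Subgroup G)) :
    Subgroup.normalizer (Q : Set G) =
      (Subgroup.normalizer (Q : Set G) ⊓ Subgroup.normalizer ((P : Subgroup G) : Set G)) ⊔
        Subgroup.centralizer (Q : Set G) := by
  refine le_antisymm (fun n hn => ?_) (sup_le inf_le_left (Subgroup.centralizer_le_normalizer _))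
  have hPC := le_centralizer_of_comm hP hQ
  have h2 : ↑(n • P) ≤ Subgroup.centralizer (Q : Set G) := by
    intro x hx
    rw [Sylow.coe_subgroup_smul, Subgroup.mem_pointwise_smul_iff_inv_smul_mem] at hx
    have hx' : n⁻¹ * x * n ∈ (P : Subgroup G) := by simpa [MulAut.smul_def] using hx
    rw [Subgroup.mem_centralizer_iff]
    intro y hy
    have hy' : n⁻¹ * y * n ∈ Q := by
      have := (Subgroup.mem_normalizer_iff.mp (inv_mem hn) y).mp hy
      simpa using this
    have h := Subgroup.mem_centralizer_iff.mp (hPC hx') _ hy'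
    calc y * x = n * (n⁻¹ * y * n * (n⁻¹ * x * n)) * n⁻¹ := by group
      _ = n * (n⁻¹ * x * n * (n⁻¹ * y * n)) * n⁻¹ := by rw [h]
      _ = x * y := by group
  obtain ⟨c, hc⟩ := MulAction.exists_smul_eq (Subgroup.centralizer (Q : Set G))
    ((n • P).subtype h2) (P.subtype hPC)
  rw [Sylow.smul_subtype] at hc
  have hc' := Sylow.subtype_injective hc
  rw [Subgroup.smul_def, smul_smul] at hc'
  have hN : (c : G) * n ∈ Subgroup.normalizer ((P : Subgroup G) : Set G) :=
    Sylow.smul_eq_iff_mem_normalizer.mp hc'
  have hQn : (c : G) * n ∈ Subgroup.normalizer (Q : Set G) :=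
    mul_mem (Subgroup.centralizer_le_normalizer _ c.2) hn
  have : n = (c : G)⁻¹ * ((c : G) * n) := by group
  rw [this]
  exact mul_mem (inv_mem (Subgroup.mem_sup_right c.2)) (Subgroup.mem_sup_left ⟨hQn, hN⟩)

/-- The order of the automizer of `Q ≤ P` divides that of the abelian Sylow subgroup `P`. -/
theorem automizer_index_dvd [Finite G] {p : ℕ} [Fact p.Prime] (P : Sylow p G)
    (hP : IsMulCommutative (P : Subgroup G)) (Q : Subgroup G) (hQ : Q ≤ (P : Subgroup G)) :
    ((Subgroup.centralizer (Q : Set G)).subgroupOf (Subgroup.normalizer (Q : Set G))).index ∣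
      ((Subgroup.centralizer ((P : Subgroup G) : Set G)).subgroupOf
        (Subgroup.normalizer ((P : Subgroup G) : Set G))).index := by
  set C := Subgroup.centralizer (Q : Set G) with hC
  set N := Subgroup.normalizer (Q : Set G) with hN
  set A := N ⊓ Subgroup.normalizer ((P : Subgroup G) : Set G) with hA
  have hCP : Subgroup.centralizer ((P : Subgroup G) : Set G) ≤ C := Subgroup.centralizer_le hQ
  have hCPA : Subgroup.centralizer ((P : Subgroup G) : Set G) ≤ A :=
    le_inf (hCP.trans (Subgroup.centralizer_le_normalizer _)) (Subgroup.centralizer_le_normalizer _)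
  have hCN : C ≤ N := Subgroup.centralizer_le_normalizer _
  have e1 : C.relIndex N = C.relIndex A := by
    have hn : (C.subgroupOf N).Normal := inferInstance
    have h := Subgroup.relIndex_sup_right (A.subgroupOf N) (C.subgroupOf N)
    rw [Subgroup.relIndex_subgroupOf inf_le_left, ← Subgroup.subgroupOf_sup inf_le_left hCN,
      ← normalizer_eq_inf_sup_centralizer P hP Q hQ, Subgroup.relIndex_subgroupOf le_rfl] at h
    exact h
  change C.relIndex N ∣ Subgroup.relIndex _ _
  rw [e1]
  refine (Subgroup.relIndex_dvd_of_le_left A hCP).trans ?_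
  exact ⟨_, (Subgroup.relIndex_mul_relIndex _ _ _ hCPA inf_le_right).symm⟩

/-- An element inverted, but not centralized, by conjugation forces an even automizer. -/
theorem two_dvd_automizer_of_inverted (c t : G) (hne : c ≠ c⁻¹) (ht : t * c * t⁻¹ = c⁻¹) :
    2 ∣ ((Subgroup.centralizer ((Subgroup.zpowers c : Subgroup G) : Set G)).subgroupOf
      (Subgroup.normalizer ((Subgroup.zpowers c : Subgroup G) : Set G))).index := by
  set Q := Subgroup.zpowers c
  set N := Subgroup.normalizer (Q : Set G)
  set C := (Subgroup.centralizer (Q : Set G)).subgroupOf N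
  have hconj : ∀ k : ℤ, t * c ^ k * t⁻¹ = c ^ (-k) := fun k => by
    rw [← conj_zpow, ht, inv_zpow, zpow_neg]
  have htN : t ∈ N := by
    rw [Subgroup.mem_normalizer_iff]
    intro x
    constructor
    · rintro ⟨k, rfl⟩
      exact ⟨-k, (hconj k).symm⟩
    · rintro ⟨k, hk⟩
      refine ⟨-k, ?_⟩
      have h := hconj (-k)
      rw [neg_neg] at h
      have : t * x * t⁻¹ = t * c ^ (-k) * t⁻¹ := by rw [h]; exact hk.symm
      simpa using this.symm
  have hnot : (QuotientGroup.mk (⟨t, htN⟩ : N) : N ⧸ C) ≠ 1 := by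
    rw [Ne, QuotientGroup.eq_one_iff]
    intro h
    have := Subgroup.mem_centralizer_iff.mp (Subgroup.mem_subgroupOf.mp h) c
      (Subgroup.mem_zpowers c)
    apply hne
    calc c = t * c * t⁻¹ := by simp only at this; rw [← this]; group
      _ = c⁻¹ := ht
  have hsq : (QuotientGroup.mk (⟨t, htN⟩ : N) : N ⧸ C) ^ 2 = 1 := by
    rw [← QuotientGroup.mk_pow, QuotientGroup.eq_one_iff, Subgroup.mem_subgroupOf,
      Subgroup.mem_centralizer_iff]
    rintro _ ⟨k, rfl⟩
    have h1 := hconj k
    have h2 := hconj (-k)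
    rw [neg_neg] at h2
    simp only [SubgroupClass.coe_pow, pow_two]
    calc c ^ k * (t * t) = t * c ^ (-k) * t⁻¹ * (t * t) := by rw [h2]
      _ = t * (c ^ (-k)) * t := by group
      _ = t * (t * c ^ k * t⁻¹) * t := by rw [h1]
      _ = t * t * c ^ k := by group
  have := orderOf_eq_prime hsq hnot
  rw [Subgroup.index_eq_card, ← this]
  exact orderOf_dvd_natCard _

end Cfsg.Agent.Automizer
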