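import Cfsg.Agent.Lib.PCore.PSolvable
import Cfsg.Agent.Lib.Solvable.Hall
import Cfsg.Agent.Lib.Offender.Thompson
import Mathlib.GroupTheory.SchurZassenhaus

/-!
# `{p, q}`-subgroups of `p`-solvable groups

`exists_hallPair`: a finite `p`-solvable group has a subgroup of order `|G|_p |G|_q` containing a given
Sylow `p`-subgroup.
-/

set_option autoImplicit false

namespace Cfsg.Agent.Automizer

open Subgroup

universe u

/-- The `{p, q}`-part of a natural number. -/
def pairPart (p q k : ℕ) : ℕ := p ^ k.factorization p * q ^ k.factorization q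

variable {p q : ℕ}

theorem pairPart_mul {a b : ℕ} (ha : a ≠ 0) (hb : b ≠ 0) :
    pairPart p q (a * b) = pairPart p q a * pairPart p q b := by
  simp only [pairPart, Nat.factorization_mul ha hb, Finsupp.add_apply, pow_add]
  ring

theorem exists_card_pairPart [Fact p.Prime] [Fact q.Prime] (hpq : p ≠ q) :
    ∀ (n : ℕ) (G : Type u) [Group G] [Finite G], Nat.card G = n → Cfsg.IsPSolvable p G →
      ∃ U : Subgroup G, Nat.card U = pairPart p q n := by
  have hp : p.Prime := Fact.out
  have hq : q.Prime := Fact.out
  intro n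
  induction n using Nat.strong_induction_on with
  | _ n ih =>
  intro G _ _ hn hs
  rcases subsingleton_or_nontrivial G with hsub | hnt
  · refine ⟨⊥, ?_⟩
    rw [← hn, Nat.card_of_subsingleton (1 : G), card_bot]
    simp [pairPart]
  obtain ⟨N, ⟨hNn, hNne⟩, hmin⟩ := (Set.toFinite {N : Subgroup G | N.Normal ∧ N ≠ ⊥}).exists_minimal
    ⟨⊤, inferInstance, top_ne_bot⟩
  haveI := hNn
  have hmin' : ∀ K : Subgroup G, K.Normal → K ≤ N → K = ⊥ ∨ K = N := fun K hK hKN =>
    (em (K = ⊥)).imp_right fun h => le_antisymm hKN (hmin ⟨hK, h⟩ hKN)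
  have hM : Nat.card N ≠ 0 := Nat.card_pos.ne'
  have hk : Nat.card (G ⧸ N) ≠ 0 := Nat.card_pos.ne'
  have hMk : Nat.card (G ⧸ N) * Nat.card N = n := hn ▸ (card_eq_card_quotient_mul_card_subgroup N).symm
  have hlt : Nat.card (G ⧸ N) < n := by
    rw [← hMk]
    exact lt_mul_of_one_lt_right (Nat.pos_of_ne_zero hk) (N.one_lt_card_iff_ne_bot.2 hNne)
  have hsplit : pairPart p q n = pairPart p q (Nat.card (G ⧸ N)) * pairPart p q (Nat.card N) := by
    rw [← hMk, pairPart_mul hk hM]
  obtain ⟨V, hV⟩ := ih _ hlt (G ⧸ N) rfl (PCore.isPSolvable_quotient hs N)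
  set U := V.comap (QuotientGroup.mk' N) with hU
  have hUcard : Nat.card U = Nat.card N * pairPart p q (Nat.card (G ⧸ N)) := by
    rw [hU, Solvable.card_comap_quotient, hV]
  by_cases hpair : pairPart p q (Nat.card N) = Nat.card N
  · exact ⟨U, by rw [hUcard, hsplit, hpair, mul_comm]⟩
  have hcop : (Nat.card N).Coprime p := by
    refine (PCore.isPGroup_or_coprime_of_minimal_normal hs N hmin').resolve_left fun hNp => hpair ?_
    obtain ⟨e, he⟩ := hNp.exists_card_eq
    rw [he, pairPart, hp.factorization_pow, Finsupp.single_eq_same, Finsupp.single_eq_of_ne hpq.symm,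
      pow_zero, mul_one]
  have hNp0 : (Nat.card N).factorization p = 0 :=
    Nat.factorization_eq_zero_of_not_dvd (hp.coprime_iff_not_dvd.1 hcop.symm)
  by_cases hUtop : U = ⊤
  · -- the quotient is a {p, q}-group
    have hkpair : pairPart p q (Nat.card (G ⧸ N)) = Nat.card (G ⧸ N) := by
      rw [hUtop, card_top, hn, ← hMk, mul_comm] at hUcard
      exact (Nat.eq_of_mul_eq_mul_left (Nat.pos_of_ne_zero hM) hUcard).symm
    obtain ⟨Qm⟩ : Nonempty (Sylow q N) := inferInstance
    set Q' := (Qm : Subgroup N).map N.subtype with hQ'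
    have hQcard : Nat.card Q' = q ^ (Nat.card N).factorization q := by
      rw [hQ', card_map_of_injective N.subtype_injective, Sylow.card_eq_multiplicity]
    by_cases hqN : (Nat.card N).factorization q = 0
    · have hone : pairPart p q (Nat.card N) = 1 := by simp [pairPart, hNp0, hqN]
      have hcop' : (Nat.card N).Coprime N.index := by
        rw [index_eq_card, ← hkpair, pairPart]
        refine (hcop.pow_right _).mul_right (Nat.Coprime.pow_right _ ?_)
        refine (hq.coprime_iff_not_dvd.2 fun hd => ?_).symm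
        exact (hq.factorization_pos_of_dvd hM hd).ne' hqN
      obtain ⟨H, hH⟩ := exists_right_complement'_of_coprime hcop'
      refine ⟨H, ?_⟩
      have h1 := hH.card_mul
      rw [hn, ← hMk, mul_comm] at h1
      rw [hsplit, hone, mul_one, hkpair]
      exact Nat.eq_of_mul_eq_mul_right (Nat.pos_of_ne_zero hM) h1
    · set R := normalizer (Q' : Set G) with hR
      have hRN : R ⊔ N = ⊤ := Sylow.normalizer_sup_eq_top Qm
      have hQN : Q' ≤ N := map_subtype_le _
      have hRne : R ≠ ⊤ := fun h => by
        haveI : Q'.Normal := normalizer_eq_top_iff.1 h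
        have hone : Q' ≠ ⊥ := fun h0 => by
          rw [h0, card_bot] at hQcard
          exact hqN ((Nat.pow_eq_one.1 hQcard.symm).resolve_left hq.one_lt.ne')
        have hQ'N : Q' = N := (hmin' Q' inferInstance hQN).resolve_left hone
        apply hpair
        rw [hQ'N] at hQcard
        rw [pairPart, hNp0, pow_zero, one_mul, ← hQcard]
      have hcardR : Nat.card (G ⧸ N) * Nat.card (R ⊓ N : Subgroup G) = Nat.card R := by
        have h1 := Offender.card_sup_mul_card_inf (H := R) (N := N)
          (by rw [normalizer_eq_top]; exact le_top)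
        rw [hRN, card_top, hn, ← hMk, mul_right_comm] at h1
        exact Nat.eq_of_mul_eq_mul_right (Nat.pos_of_ne_zero hM) h1
      have hdvd : Nat.card (R ⊓ N : Subgroup G) ∣ Nat.card N := card_dvd_of_le inf_le_right
      have hRN0 : Nat.card (R ⊓ N : Subgroup G) ≠ 0 := Nat.card_pos.ne'
      have hsame : pairPart p q (Nat.card (R ⊓ N : Subgroup G)) = pairPart p q (Nat.card N) := by
        have h1 : (Nat.card (R ⊓ N : Subgroup G)).factorization p = 0 :=
          Nat.factorization_eq_zero_of_not_dvd
            (hp.coprime_iff_not_dvd.1 (hcop.coprime_dvd_left hdvd).symm)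
        have h2 : (Nat.card (R ⊓ N : Subgroup G)).factorization q = (Nat.card N).factorization q := by
          refine le_antisymm ((Nat.factorization_le_iff_dvd hRN0 hM).2 hdvd q) ?_
          rw [← hq.pow_dvd_iff_le_factorization hRN0, ← hQcard]
          exact card_dvd_of_le (le_inf le_normalizer hQN)
        simp only [pairPart, h1, h2, hNp0]
      have hRlt : Nat.card R < n := by
        rw [← hn]
        exact (Nat.le_of_dvd Nat.card_pos (card_subgroup_dvd_card R)).lt_of_ne fun h =>
          hRne (eq_top_of_card_eq _ h)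
      obtain ⟨U', hU'⟩ := ih _ hRlt R rfl (PCore.isPSolvable_subgroup hs R)
      refine ⟨U'.map R.subtype, ?_⟩
      rw [card_map_of_injective R.subtype_injective, hU', ← hcardR, pairPart_mul hk hRN0, hsame,
        hsplit]
  · have hUlt : Nat.card U < n := by
      rw [← hn]
      refine (Nat.le_of_dvd Nat.card_pos (card_subgroup_dvd_card U)).lt_of_ne fun h => hUtop ?_
      exact eq_top_of_card_eq _ h
    obtain ⟨U', hU'⟩ := ih _ hUlt U rfl (PCore.isPSolvable_subgroup hs U)
    refine ⟨U'.map U.subtype, ?_⟩
    rw [card_map_of_injective U.subtype_injective, hU', hUcard, pairPart_mul hM (by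
      simp [pairPart, hp.ne_zero, hq.ne_zero]), hsplit, mul_comm]
    congr 1
    have h1 : (pairPart p q (Nat.card (G ⧸ N))).factorization p = (Nat.card (G ⧸ N)).factorization p := by
      rw [pairPart, Nat.factorization_mul (pow_ne_zero _ hp.ne_zero) (pow_ne_zero _ hq.ne_zero),
        hp.factorization_pow, hq.factorization_pow]
      simp [Finsupp.single_eq_of_ne, hpq]
    have h2 : (pairPart p q (Nat.card (G ⧸ N))).factorization q = (Nat.card (G ⧸ N)).factorization q := by
      rw [pairPart, Nat.factorization_mul (pow_ne_zero _ hp.ne_zero) (pow_ne_zero _ hq.ne_zero),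
        hp.factorization_pow, hq.factorization_pow]
      simp [Finsupp.single_eq_of_ne, hpq.symm]
    rw [pairPart, h1, h2]
    rfl

/-- A `p`-solvable group has a Hall `{p, q}`-subgroup containing a given Sylow `p`-subgroup. -/
theorem exists_hallPair [Fact p.Prime] [Fact q.Prime] (hpq : p ≠ q) {G : Type u} [Group G] [Finite G]
    (hs : Cfsg.IsPSolvable p G) (T : Sylow p G) :
    ∃ U : Subgroup G, Nat.card U = pairPart p q (Nat.card G) ∧ (T : Subgroup G) ≤ U := by
  have hp : p.Prime := Fact.out
  have hq : q.Prime := Fact.out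
  obtain ⟨U, hU⟩ := exists_card_pairPart hpq _ G rfl hs
  obtain ⟨S⟩ : Nonempty (Sylow p U) := inferInstance
  have hS : Nat.card ((S : Subgroup U).map U.subtype) = p ^ (Nat.card G).factorization p := by
    rw [card_map_of_injective U.subtype_injective, Sylow.card_eq_multiplicity, hU, pairPart,
      Nat.factorization_mul (pow_ne_zero _ hp.ne_zero) (pow_ne_zero _ hq.ne_zero),
      hp.factorization_pow, hq.factorization_pow]
    simp [Finsupp.single_eq_of_ne, hpq]
  obtain ⟨g, hg⟩ := MulAction.exists_smul_eq G (Sylow.ofCard _ hS) T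
  refine ⟨U.map (MulAut.conj g).toMonoidHom, ?_, ?_⟩
  · rw [card_map_of_injective (MulAut.conj g).injective, hU]
  · have h1 : (T : Subgroup G) = ((S : Subgroup U).map U.subtype).map (MulAut.conj g).toMonoidHom := by
      rw [← hg]; rfl
    rw [h1]
    exact map_mono (map_subtype_le _)

end Cfsg.Agent.Automizer
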