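import Cfsg.Agent.Lib.Automizer.QDivisor
import Cfsg.Agent.Lib.Balance.CharP

/-!
# A moved subgroup that is normal in a Sylow subgroup

`exists_moves_normal`: the induction on `|G|` and on the Sylow part of the normalizer.
-/

set_option autoImplicit false

namespace Cfsg.Agent.Automizer

open Subgroup

universe u

variable {p q : ℕ}

/-- The automizers of `p`-subgroups are `p`-solvable. -/
def SolvableAutomizers (p : ℕ) (G : Type u) [Group G] : Prop :=
  ∀ H : Subgroup G, IsPGroup p ↥H →
    Cfsg.IsPSolvable p (↥(normalizer (H : Set G)) ⧸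
      (centralizer (H : Set G)).subgroupOf (normalizer (H : Set G)))

theorem SolvableAutomizers.subgroup [Fact p.Prime] {G : Type u} [Group G] [Finite G]
    (h : SolvableAutomizers p G) (G₁ : Subgroup G) : SolvableAutomizers p G₁ := by
  intro H hH
  set N₁ := normalizer (H : Set G₁) with hN₁
  set H' := H.map G₁.subtype with hH'
  set N := normalizer (H' : Set G) with hN
  have hmem : ∀ x ∈ N₁, (x : G) ∈ N := fun x hx => le_normalizer_map G₁.subtype (mem_map_of_mem G₁.subtype hx)
  let incl : N₁ →* N := (G₁.subtype.comp N₁.subtype).codRestrict N fun x => hmem x x.2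
  refine PCore.isPSolvable_of_injective
    (QuotientGroup.map _ ((centralizer (H' : Set G)).subgroupOf N) incl ?_) ?_ (h H' (hH.map _))
  · intro x hx
    refine mem_subgroupOf.2 (mem_centralizer_iff.2 ?_)
    intro w' hw'
    obtain ⟨w, hw, rfl⟩ := mem_map.1 hw'
    exact congrArg Subtype.val (mem_centralizer_iff.1 (mem_subgroupOf.1 hx) w hw)
  · rw [injective_iff_map_eq_one]
    intro x
    induction x using QuotientGroup.induction_on with
    | _ x =>
      intro hx
      erw [QuotientGroup.map_mk, QuotientGroup.eq_one_iff] at hx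
      rw [QuotientGroup.eq_one_iff]
      refine mem_subgroupOf.2 (mem_centralizer_iff.2 fun w hw => Subtype.ext ?_)
      exact mem_centralizer_iff.1 (mem_subgroupOf.1 hx) _ (mem_map_of_mem G₁.subtype hw)

theorem SolvableAutomizers.quotient [Fact p.Prime] {G : Type u} [Group G] [Finite G]
    (h : SolvableAutomizers p G) (Z : Subgroup G) [Z.Normal] (hZ : IsPGroup p Z) :
    SolvableAutomizers p (G ⧸ Z) := by
  intro H hH
  set f := QuotientGroup.mk' Z with hf
  have hfs : Function.Surjective f := QuotientGroup.mk'_surjective Z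
  set K := H.comap f with hK
  have hKH : K.map f = H := map_comap_eq_self_of_surjective hfs H
  have hker : IsPGroup p f.ker := by rw [hf, QuotientGroup.ker_mk']; exact hZ
  have hKp : IsPGroup p K := hH.comap_of_ker_isPGroup f hker
  have hNK : (normalizer (H : Set (G ⧸ Z))).comap f = normalizer (K : Set G) :=
    comap_normalizer_eq_of_surjective H hfs
  set N := normalizer (K : Set G) with hN
  have hmem : ∀ x ∈ N, f x ∈ normalizer (H : Set (G ⧸ Z)) := fun x hx => hNK.ge hx
  let g : N →* normalizer (H : Set (G ⧸ Z)) := (f.comp N.subtype).codRestrict _ fun x => hmem x x.2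
  have hg : Function.Surjective g := by
    rintro ⟨w, hw⟩
    obtain ⟨x, rfl⟩ := hfs w
    exact ⟨⟨x, hNK.le hw⟩, rfl⟩
  refine PCore.isPSolvable_of_surjective
    (QuotientGroup.map ((centralizer (K : Set G)).subgroupOf N) _ g ?_) ?_ (h K hKp)
  · intro x hx
    refine mem_subgroupOf.2 (mem_centralizer_iff.2 fun w hw => ?_)
    rw [SetLike.mem_coe, ← hKH] at hw
    obtain ⟨k, hk, rfl⟩ := hw
    show f k * f x = f x * f k
    rw [← map_mul, ← map_mul, mem_centralizer_iff.1 (mem_subgroupOf.1 hx) k hk]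
  · intro w
    induction w using QuotientGroup.induction_on with
    | _ w =>
      obtain ⟨x, rfl⟩ := hg w
      exact ⟨QuotientGroup.mk x, rfl⟩

/-- `N(H)` is `p`-solvable when `H` is centric and its automizer is `p`-solvable. -/
theorem isPSolvable_normalizer [hp : Fact p.Prime] {G : Type u} [Group G] [Finite G] {H : Subgroup G}
    (hH : IsPGroup p H)
    (hcent : ∀ x : G, (∃ k, orderOf x = p ^ k) → x ∈ centralizer (H : Set G) → x ∈ H)
    (hq : Cfsg.IsPSolvable p (↥(normalizer (H : Set G)) ⧸
      (centralizer (H : Set G)).subgroupOf (normalizer (H : Set G)))) :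
    Cfsg.IsPSolvable p ↥(normalizer (H : Set G)) := by
  set N := normalizer (H : Set G) with hN
  set C := centralizer (H : Set G) with hC
  refine PCore.isPSolvable_of_normal (C.subgroupOf N) ?_ hq
  rw [PCore.isPSolvable_congr (subgroupOfEquivOfLe (centralizer_le_normalizer (H : Set G)))]
  set Z := (H ⊓ C).subgroupOf C with hZ
  haveI : Z.Normal := ⟨fun z hz g => by
    have : g * z * g⁻¹ = z := by
      rw [show g * z = z * g from Subtype.ext
        ((mem_centralizer_iff.1 g.2 _ (mem_subgroupOf.1 hz).1).symm), mul_inv_cancel_right]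
    rw [this]; exact hz⟩
  refine PCore.isPSolvable_of_normal Z
    (PCore.isPSolvable_of_isPGroup ((hH.to_le inf_le_left).comap_of_injective _ C.subtype_injective))
    (PCore.isPSolvable_of_coprime (hp.out.coprime_iff_not_dvd.2 ?_).symm)
  intro hd
  obtain ⟨w, hw⟩ := exists_prime_orderOf_dvd_card' p hd
  obtain ⟨⟨w, hwC⟩, rfl⟩ := QuotientGroup.mk'_surjective Z w
  obtain ⟨w', hw'C, hw'p, hw'o⟩ := exists_qPart (q := p) (QuotientGroup.mk' Z) hwC (j := 1)
    (by rw [pow_one]; exact hw)
  have : QuotientGroup.mk' Z ⟨w', hw'C⟩ = 1 := (QuotientGroup.eq_one_iff _).2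
    (mem_subgroupOf.2 ⟨hcent w' hw'p hw'C, hw'C⟩)
  rw [this, orderOf_one, pow_one] at hw'o
  exact hp.out.ne_one hw'o.symm

/-- A `q`-element centralizing `J(T)` and normalizing `H ≤ T` centralizes `H`. -/
theorem mem_centralizer_of_mem_centralizer_thompsonA [Fact p.Prime] {G : Type u} [Group G] [Finite G]
    {H T : Subgroup G} (hT : IsPGroup p T) (hHT : H ≤ T) (hTH : T ≤ normalizer (H : Set G)) {z : G}
    (hz : (orderOf z).Coprime p) (hzH : z ∈ normalizer (H : Set G))
    (hzJ : z ∈ centralizer (Cfsg.thompsonSubgroupAOf T : Set G)) :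
    z ∈ centralizer (H : Set G) := by
  obtain ⟨A, hA⟩ := PGroup.exists_isMaxAb T
  have hzA : ∀ r ∈ A, Commute z r := fun r hr =>
    (mem_centralizer_iff.1 hzJ r (PGroup.le_thompsonSubgroupAOf hA hr)).symm
  have key := Balance.commute_of_commute_fixed (hT.to_le hHT) (hT.to_le hA.1) (hA.1.trans hTH) hzH hz
    hzA fun c hc hcA => hzA c ?_
  · exact mem_centralizer_iff.2 fun c hc => (key c hc).eq.symm
  · rw [← PGroup.inf_centralizer_eq_of_isMaxAb hA]
    exact ⟨hHT hc, mem_centralizer_iff.2 fun r hr => (hcA r hr).eq⟩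

theorem exists_moves_normal [hp : Fact p.Prime] [hq : Fact q.Prime] (hpq : p ≠ q)
    (h23 : ¬ (p = 2 ∧ q = 3)) :
    ∀ (n : ℕ) (G : Type u) [Group G] [Finite G], Nat.card G = n → SolvableAutomizers p G →
      ∀ H : Subgroup G, IsPGroup p H → Moves q H → ∀ Gp : Sylow p G,
        ∃ K : Subgroup G, K ≤ (Gp : Subgroup G) ∧
          (Gp : Subgroup G) ≤ normalizer (K : Set G) ∧ Moves q K := by
  intro n
  induction n using Nat.strong_induction_on with
  | _ n ih =>
  intro G _ _ hn hsol H₀ hH₀ hm₀ Gp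
  -- it is enough to find `K` normal in some Sylow subgroup
  suffices h : ∃ (P : Sylow p G) (K : Subgroup G), K ≤ (P : Subgroup G) ∧
      (P : Subgroup G) ≤ normalizer (K : Set G) ∧ Moves q K by
    obtain ⟨P, K, hKP, hPK, hK⟩ := h
    obtain ⟨g, rfl⟩ := MulAction.exists_smul_eq G P Gp
    exact ⟨K.map (MulAut.conj g).toMonoidHom, map_mono hKP,
      (map_mono hPK).trans (le_normalizer_map _), hK.map_equiv (MulAut.conj g)⟩
  -- choose `T` of largest order
  set S : Set (Subgroup G × Subgroup G) := {x | IsPGroup p x.1 ∧ IsPGroup p x.2 ∧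
    x.2 ≤ normalizer (x.1 : Set G) ∧ Moves q x.1 ∧
    ∀ y : G, (∃ k, orderOf y = p ^ k) → y ∈ centralizer (x.1 : Set G) → y ∈ x.1} with hS
  have hne : S.Nonempty := by
    obtain ⟨H', h1, h2, h3, h4⟩ := exists_centric hpq hH₀ (T := ⊥) IsPGroup.of_bot bot_le hm₀
    exact ⟨(H', ⊥), h1, IsPGroup.of_bot, h2, h3, h4⟩
  obtain ⟨⟨H, T⟩, ⟨hH, hT, hTH, hm, hcent⟩, hmax⟩ :=
    Set.exists_max_image S (fun x => Nat.card x.2) (Set.toFinite _) hne
  set N := normalizer (H : Set G) with hN
  have hmaxT : ∀ T' : Subgroup G, IsPGroup p T' → T' ≤ N → T ≤ T' → T' = T := fun T' h1 h2 h3 =>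
    (eq_of_le_of_card_ge h3 (hmax (H, T') ⟨hH, h1, h2, hm, hcent⟩)).symm
  have hHT : H ≤ T := by
    have h := hmaxT (T ⊔ H) (hT.to_sup_of_normal_right' hH hTH) (sup_le hTH le_normalizer) le_sup_left
    rw [← h]; exact le_sup_right
  obtain ⟨TN, hTN⟩ : ∃ TN : Sylow p N, (TN : Subgroup N).map N.subtype = T := by
    obtain ⟨TN, hle⟩ := (hT.comap_of_injective N.subtype N.subtype_injective).exists_le_sylow
    refine ⟨TN, hmaxT _ (TN.2.map _) (map_subtype_le _) fun t ht => ?_⟩
    exact ⟨⟨t, hTH ht⟩, hle ht, rfl⟩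
  obtain ⟨P, hTP⟩ := hT.exists_le_sylow
  refine ⟨P, ?_⟩
  -- a Hall {p, q}-subgroup of `N(H)`
  obtain ⟨U, hUcard, hTU⟩ := exists_hallPair (q := q) hpq
    (isPSolvable_normalizer hH hcent (hsol H hH)) TN
  set U' := U.map N.subtype with hU'
  have hU'N : U' ≤ N := map_subtype_le _
  have hTU' : T ≤ U' := hTN.ge.trans (map_mono hTU)
  have hHU' : H ≤ U' := hHT.trans hTU'
  haveI hHn : (H.subgroupOf U').Normal := normal_subgroupOf_iff_le_normalizer hHU' |>.2 hU'N
  have hy : ∃ y : U', (∃ k, orderOf y = q ^ k) ∧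
      y ∉ centralizer ((H.subgroupOf U' : Subgroup U') : Set U') := by
    obtain ⟨y, hyN, ⟨k, hk⟩, hyC⟩ := hm
    obtain ⟨QU⟩ : Nonempty (Sylow q U) := inferInstance
    have hQcard : Nat.card ((QU : Subgroup U).map U.subtype) = q ^ (Nat.card N).factorization q := by
      rw [card_map_of_injective U.subtype_injective, Sylow.card_eq_multiplicity, hUcard, pairPart,
        Nat.factorization_mul (pow_ne_zero _ hp.out.ne_zero) (pow_ne_zero _ hq.out.ne_zero),
        hp.out.factorization_pow, hq.out.factorization_pow]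
      simp [Finsupp.single_eq_of_ne, hpq.symm, hN]
    have hzp : IsPGroup q (zpowers (⟨y, hyN⟩ : N)) := IsPGroup.of_card (n := k) (by
      rw [Nat.card_zpowers, Subgroup.orderOf_mk, hk])
    obtain ⟨Sy, hSy⟩ := hzp.exists_le_sylow
    obtain ⟨g, hg⟩ := MulAction.exists_smul_eq N (Sylow.ofCard _ hQcard) Sy
    obtain ⟨z, hz, hzy⟩ : ∃ z ∈ (QU : Subgroup U).map U.subtype, MulAut.conj g z = ⟨y, hyN⟩ := by
      have h1 : (⟨y, hyN⟩ : N) ∈ ((g • Sylow.ofCard _ hQcard : Sylow q N) : Subgroup N) := by
        rw [hg]; exact hSy (mem_zpowers _)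
      exact h1
    have hzU : z ∈ U := map_subtype_le _ hz
    refine ⟨⟨(z : G), mem_map_of_mem N.subtype hzU⟩, ⟨k, ?_⟩, fun hC => hyC ?_⟩
    · rw [← Subgroup.orderOf_coe]
      show orderOf ((z : N) : G) = q ^ k
      rw [Subgroup.orderOf_coe, ← MulEquiv.orderOf_eq (MulAut.conj g) z, hzy, Subgroup.orderOf_mk, hk]
    · have hzC : (z : G) ∈ centralizer (H : Set G) := mem_centralizer_iff.2 fun x hx =>
        congrArg Subtype.val (mem_centralizer_iff.1 hC ⟨x, hHU' hx⟩ hx)
      have := (mem_normalizer_iff.1 (Balance.normalizer_le_normalizer_centralizer _ g.2) (z : G)).1 hzC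
      rwa [show y = (g : G) * z * (g : G)⁻¹ from (congrArg Subtype.val hzy).symm]
  have hcard' : Nat.card U' = p ^ (Nat.card N).factorization p * q ^ (Nat.card N).factorization q := by
    rw [hU', card_map_of_injective N.subtype_injective, hUcard]; rfl
  have hnd : ¬ p ∣ (T.subgroupOf U').index := by
    intro hd
    refine TN.not_dvd_index ?_
    show p ∣ (TN : Subgroup N).index
    have h1 : T.relIndex U' = (TN : Subgroup N).relIndex U := by
      rw [← hTN, hU', relIndex_map_map_of_injective _ _ N.subtype_injective]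
    rw [← relIndex_mul_index hTU]
    exact dvd_mul_of_dvd_left (h1 ▸ hd) _
  set TU : Sylow p U' := (hT.comap_of_injective _ U'.subtype_injective).toSylow hnd
  have hTUmap : (TU : Subgroup U').map U'.subtype = T := map_subgroupOf_eq_of_le hTU'
  obtain ⟨z, ⟨k, hk⟩, hzC, hz⟩ := exists_moves_thompson_or_center hpq h23 hcard' TU (H.subgroupOf U')
    (hH.comap_of_injective _ U'.subtype_injective)
    (fun x ⟨j, hj⟩ hx => hcent x ⟨j, by rw [Subgroup.orderOf_coe, hj]⟩
      (mem_centralizer_iff.2 fun w hw =>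
        congrArg Subtype.val (mem_centralizer_iff.1 hx ⟨w, hHU' hw⟩ hw))) hy
  have hzo : ∃ j, orderOf (z : G) = q ^ j := ⟨k, by rw [Subgroup.orderOf_coe, hk]⟩
  have hzH : (z : G) ∈ normalizer (H : Set G) := hU'N z.2
  have hzC' : (z : G) ∉ centralizer (H : Set G) := fun h =>
    hzC (mem_centralizer_iff.2 fun w hw => Subtype.ext (mem_centralizer_iff.1 h _ hw))
  rcases hz with hz | hz
  · -- the Thompson subgroup
    set J := Cfsg.thompsonSubgroupAOf T with hJ
    have hJmap : (Cfsg.thompsonSubgroupAOf (TU : Subgroup U')).map U'.subtype = J := by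
      rw [hJ, ← hTUmap, Replacement.thompsonSubgroupAOf_map_injOn _
        fun x _ hx => U'.subtype_injective (hx.trans (map_one _).symm)]
    have hzJ : (z : G) ∈ normalizer (J : Set G) :=
      hJmap ▸ le_normalizer_map U'.subtype (mem_map_of_mem _ hz)
    have hJm : Moves q J := ⟨z, hzJ, hzo, fun h => hzC'
      (mem_centralizer_of_mem_centralizer_thompsonA hT hHT hTH (coprime_orderOf hpq hzo) hzH h)⟩
    have hJT : J ≤ T := PGroup.thompsonSubgroupAOf_le T
    have hNT : normalizer (T : Set G) ≤ normalizer (J : Set G) :=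
      PGroup.normalizer_le_normalizer_thompsonAOf T
    have hTeq : T = (P : Subgroup G) := by
      by_contra hne
      set T₁ := (P : Subgroup G) ⊓ normalizer (T : Set G) with hT₁
      have hlt : T < T₁ := by
        haveI := P.2.isNilpotent
        have h1 : T.subgroupOf (P : Subgroup G) < ⊤ := lt_top_iff_ne_top.2 fun e =>
          hne (le_antisymm hTP (subgroupOf_eq_top.1 e))
        obtain ⟨x, hx, hxT⟩ := SetLike.exists_of_lt (Group.normalizerCondition_of_isNilpotent _ h1)
        refine lt_of_le_of_ne (le_inf hTP le_normalizer) fun e => hxT ?_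
        refine mem_subgroupOf.2 (e ▸ ⟨x.2, ?_⟩)
        have h2 := le_normalizer_map (P : Subgroup G).subtype (mem_map_of_mem _ hx)
        rwa [map_subgroupOf_eq_of_le hTP] at h2
      obtain ⟨H', h1, h2, h3, h4⟩ := exists_centric hpq (hT.to_le hJT) (T := T₁)
        (P.2.to_le inf_le_left) (inf_le_right.trans hNT) hJm
      have h5 : Nat.card T₁ ≤ Nat.card T := hmax (H', T₁) ⟨h1, P.2.to_le inf_le_left, h2, h3, h4⟩
      exact hlt.ne (eq_of_le_of_card_ge hlt.le h5)
    exact ⟨J, hTeq ▸ hJT, hTeq ▸ le_normalizer.trans hNT, hJm⟩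
  · -- the centraliser of the centre
    set Z := (P : Subgroup G) ⊓ centralizer ((P : Subgroup G) : Set G) with hZ
    have hZH : Z ≤ H := fun x hx => by
      refine hcent x ?_ (mem_centralizer_iff.2 fun h hh =>
        mem_centralizer_iff.1 hx.2 h (hTP (hHT hh)))
      obtain ⟨j, hj⟩ := IsPGroup.iff_orderOf.1 P.2 ⟨x, hx.1⟩
      exact ⟨j, by rw [← hj, Subgroup.orderOf_mk]⟩
    have hzZ : (z : G) ∈ centralizer (Z : Set G) := mem_centralizer_iff.2 fun x hx => by
      refine congrArg Subtype.val (mem_centralizer_iff.1 hz ⟨x, hHU' (hZH hx)⟩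
        ⟨mem_subgroupOf.2 (hHT (hZH hx)), mem_centralizer_iff.2 fun t ht => Subtype.ext ?_⟩)
      exact mem_centralizer_iff.1 hx.2 _ (hTP (mem_subgroupOf.1 ht))
    set G₁ := centralizer (Z : Set G) with hG₁
    have hPG₁ : (P : Subgroup G) ≤ G₁ := fun x hx =>
      mem_centralizer_iff.2 fun w hw => (mem_centralizer_iff.1 hw.2 x hx).symm
    by_cases htop : G₁ = ⊤
    · -- `Z(P)` is central
      have hZc : Z ≤ center G := fun x hx => mem_center_iff.2 fun g =>
        (mem_centralizer_iff.1 (htop.ge (mem_top g)) x hx).symm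
      haveI hZn : Z.Normal := ⟨fun x hx g => by
        rw [mem_center_iff.1 (hZc hx) g, mul_inv_cancel_right]; exact hx⟩
      have hZne : Z ≠ ⊥ := by
        intro h0
        have hPb : (P : Subgroup G) = ⊥ := by
          by_contra hPne
          haveI := nontrivial_iff_ne_bot _ |>.2 hPne
          haveI := P.2.center_nontrivial
          obtain ⟨⟨c, hc⟩, hc1⟩ := exists_ne (1 : center (P : Subgroup G))
          apply hc1
          have : (c : G) ∈ Z := ⟨c.2, mem_centralizer_iff.2 fun w hw =>
            congrArg Subtype.val (mem_center_iff.1 hc ⟨w, hw⟩)⟩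
          rw [h0, mem_bot] at this
          exact Subtype.ext (Subtype.ext this)
        exact hzC' (mem_centralizer_iff.2 fun x hx => by
          rw [show x = 1 from mem_bot.1 (hPb ▸ hTP (hHT hx)), one_mul, mul_one])
      set f := QuotientGroup.mk' Z with hf
      have hfs : Function.Surjective f := QuotientGroup.mk'_surjective Z
      have hlt : Nat.card (G ⧸ Z) < n := by
        rw [← hn, card_eq_card_quotient_mul_card_subgroup Z]
        exact lt_mul_of_one_lt_right Nat.card_pos (Z.one_lt_card_iff_ne_bot.2 hZne)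
      have hmove : Moves q (H.map f) := by
        obtain ⟨j, hj⟩ := hzo
        obtain ⟨i, -, hi⟩ := (Nat.dvd_prime_pow hq.out).1 (hj ▸ orderOf_map_dvd f (z : G))
        refine ⟨f z, le_normalizer_map f (mem_map_of_mem f hzH), ⟨i, hi⟩, fun hC => hzC' ?_⟩
        refine mem_centralizer_iff.2 fun x hx => ?_
        set c := (z : G) * x * (z : G)⁻¹ * x⁻¹ with hc
        have hcZ : c ∈ Z := by
          rw [← QuotientGroup.eq_one_iff]
          show f c = 1
          rw [hc, map_mul, map_mul, map_mul, map_inv, map_inv,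
            ← mem_centralizer_iff.1 hC (f x) (mem_map_of_mem f hx), mul_inv_cancel_right,
            mul_inv_cancel]
        have := Balance.commute_of_translate' (y := (z : G)) (c := x) (z := c) (P.2.to_le inf_le_left)
          hcZ (coprime_orderOf hpq ⟨j, hj⟩) (by rw [hc, inv_mul_cancel_right])
          (mem_center_iff.1 (hZc hcZ) (z : G))
        exact this.eq.symm
      obtain ⟨K, hK1, hK2, w, hwN, ⟨k', hk'⟩, hwC⟩ := ih _ hlt (G ⧸ Z) rfl
        (hsol.quotient Z (P.2.to_le inf_le_left)) _ (hH.map f) hmove (P.mapSurjective hfs)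
      have hcomap : ((P.mapSurjective hfs : Sylow p (G ⧸ Z)) : Subgroup (G ⧸ Z)).comap f = (P : Subgroup G) := by
        show ((P : Subgroup G).map f).comap f = _
        rw [comap_map_eq, hf, QuotientGroup.ker_mk', sup_eq_left]
        exact inf_le_left
      refine ⟨K.comap f, hcomap ▸ comap_mono hK1, ?_, ?_⟩
      · rw [← comap_normalizer_eq_of_surjective K hfs, ← hcomap]
        exact comap_mono hK2
      · obtain ⟨w, rfl⟩ := hfs w
        obtain ⟨w', hw'N, hw'q, -, hw'z⟩ := exists_qPart' (f.comp (normalizer (K.comap f : Set G)).subtype)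
          (show w ∈ normalizer (K.comap f : Set G) from
            (comap_normalizer_eq_of_surjective K hfs).le hwN) (j := k') hk'
        refine ⟨w', hw'N, hw'q, fun hC => hwC ?_⟩
        -- `f w'` is a power of `f w` of the same order
        have hfix : ∀ v ∈ K, v * f w' = f w' * v := by
          intro v hv
          obtain ⟨u, rfl⟩ := hfs v
          rw [← map_mul, ← map_mul, mem_centralizer_iff.1 hC u hv]
        have hmem : f w' ∈ centralizer (K : Set (G ⧸ Z)) := mem_centralizer_iff.2 hfix
        exact zpowers_le.2 hmem hw'z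
    · have hlt : Nat.card G₁ < n := by
        rw [← hn]
        exact (Nat.le_of_dvd Nat.card_pos (card_subgroup_dvd_card G₁)).lt_of_ne fun h =>
          htop (eq_top_of_card_eq _ h)
      have hHG₁ : H ≤ G₁ := (hHT.trans hTP).trans hPG₁
      have hmove : Moves q (H.subgroupOf G₁) := by
        obtain ⟨j, hj⟩ := hzo
        refine ⟨⟨z, hzZ⟩, mem_normalizer_iff.2 fun x => ?_, ⟨j, by rw [Subgroup.orderOf_mk, hj]⟩,
          fun hC => hzC' (mem_centralizer_iff.2 fun x hx =>
            congrArg Subtype.val (mem_centralizer_iff.1 hC ⟨x, hHG₁ hx⟩ hx))⟩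
        exact mem_normalizer_iff.1 hzH (x : G)
      obtain ⟨K, hK1, hK2, w, hwN, ⟨k', hk'⟩, hwC⟩ := ih _ hlt G₁ rfl (hsol.subgroup G₁) _
        (hH.comap_of_injective _ G₁.subtype_injective) hmove (P.subtype hPG₁)
      refine ⟨K.map G₁.subtype, ?_, ?_, w, le_normalizer_map _ (mem_map_of_mem _ hwN),
        ⟨k', by rw [Subgroup.orderOf_coe, hk']⟩, fun hC => hwC ?_⟩
      · rintro _ ⟨x, hx, rfl⟩
        exact hK1 hx
      · intro x hx
        exact le_normalizer_map G₁.subtype
          (mem_map_of_mem G₁.subtype (hK2 (x := ⟨x, hPG₁ hx⟩) hx))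
      · exact mem_centralizer_iff.2 fun x hx =>
          Subtype.ext (mem_centralizer_iff.1 hC _ (mem_map_of_mem G₁.subtype hx))

end Cfsg.Agent.Automizer
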