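import Cfsg.Agent.Lib.Automizer.HallPair
import Cfsg.Agent.Lib.Offender.Factorization
import Cfsg.Agent.Lib.PComplement.ThompsonTwo
import Cfsg.Agent.Lib.Balance.CharP
import Cfsg.Agent.Lib.Replacement.Constrained
import Cfsg.Agent.Lib.PCore.Basic

/-!
# Prime divisors of automizers

`exists_moves_normal`: if all automizers of `p`-subgroups are `p`-solvable and a prime `q ≠ p` divides
one of them (`(p, q) ≠ (2, 3)`), then `q` divides the automizer of a normal subgroup of a Sylow
`p`-subgroup.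

* `Moves q H`: some `q`-element normalizes `H` without centralizing it
* `moves_iff_dvd`: `Moves q H ↔ q ∣ |N(H)/C(H)|`
* `exists_moves_thompson_or_center`: in a `{p, q}`-group the moving can be seen at `J(T)` or at `C(Z(T))`
-/

set_option autoImplicit false

namespace Cfsg.Agent.Automizer

open Subgroup

universe u v

variable {G : Type u} [Group G] {p q : ℕ}

/-- Some `q`-element normalizes `H` without centralizing it. -/
def Moves (q : ℕ) (H : Subgroup G) : Prop :=
  ∃ y ∈ normalizer (H : Set G), (∃ k, orderOf y = q ^ k) ∧ y ∉ centralizer (H : Set G)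

theorem coprime_orderOf [hp : Fact p.Prime] [hq : Fact q.Prime] (hpq : p ≠ q) {y : G}
    (hy : ∃ k, orderOf y = q ^ k) : (orderOf y).Coprime p := by
  obtain ⟨k, hk⟩ := hy
  rw [hk]
  exact Nat.Coprime.pow_left k ((Nat.coprime_primes hq.out hp.out).2 hpq.symm)

/-- The `q`-part of an element keeps a `q`-element image, up to a generator of its powers. -/
theorem exists_qPart' [Finite G] [hq : Fact q.Prime] {M : Type v} [Group M] {K : Subgroup G}
    (f : K →* M) {y : G} (hy : y ∈ K) {j : ℕ} (hj : orderOf (f ⟨y, hy⟩) = q ^ j) :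
    ∃ (z : G) (hz : z ∈ K), (∃ k, orderOf z = q ^ k) ∧ orderOf (f ⟨z, hz⟩) = q ^ j ∧
      f ⟨y, hy⟩ ∈ zpowers (f ⟨z, hz⟩) := by
  have h0 : orderOf y ≠ 0 := (orderOf_pos y).ne'
  set m := ordCompl[q] (orderOf y) with hm
  have hcop : (orderOf (f ⟨y, hy⟩)).Coprime m := by
    rw [hj]
    exact Nat.Coprime.pow_left j (Nat.coprime_ordCompl hq.out h0)
  refine ⟨y ^ m, pow_mem hy m, ⟨(orderOf y).factorization q, ?_⟩, ?_, ?_⟩
  · rw [orderOf_pow_of_dvd (Nat.ordCompl_pos q h0).ne' (Nat.ordCompl_dvd _ _)]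
    exact Nat.div_div_self (Nat.ordProj_dvd _ _) h0
  · rw [show f ⟨y ^ m, pow_mem hy m⟩ = f ⟨y, hy⟩ ^ m from map_pow f ⟨y, hy⟩ m,
      Nat.Coprime.orderOf_pow hcop, hj]
  · obtain ⟨r, hr⟩ := exists_pow_eq_self_of_coprime hcop.symm
    rw [show f ⟨y ^ m, pow_mem hy m⟩ = f ⟨y, hy⟩ ^ m from map_pow f ⟨y, hy⟩ m]
    exact mem_zpowers_iff.2 ⟨r, by rw [zpow_natCast, hr]⟩

/-- The `q`-part of an element keeps a `q`-element image nontrivial. -/
theorem exists_qPart [Finite G] [hq : Fact q.Prime] {M : Type v} [Group M] {K : Subgroup G}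
    (f : K →* M) {y : G} (hy : y ∈ K) {j : ℕ} (hj : orderOf (f ⟨y, hy⟩) = q ^ j) :
    ∃ (z : G) (hz : z ∈ K), (∃ k, orderOf z = q ^ k) ∧ orderOf (f ⟨z, hz⟩) = q ^ j :=
  let ⟨z, hz, h1, h2, _⟩ := exists_qPart' f hy hj
  ⟨z, hz, h1, h2⟩

theorem moves_iff_dvd [Finite G] [hq : Fact q.Prime] (H : Subgroup G) :
    Moves q H ↔
      q ∣ ((centralizer (H : Set G)).subgroupOf (normalizer (H : Set G))).index := by
  set N := normalizer (H : Set G) with hN
  set C := (centralizer (H : Set G)).subgroupOf N with hC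
  rw [index_eq_card]
  constructor
  · rintro ⟨y, hy, ⟨k, hk⟩, hyC⟩
    obtain ⟨i, -, hi⟩ := (Nat.dvd_prime_pow hq.out).1
      (hk ▸ ((orderOf_map_dvd (QuotientGroup.mk' C) ⟨y, hy⟩).trans
        (by rw [Subgroup.orderOf_mk])) : orderOf (QuotientGroup.mk' C ⟨y, hy⟩) ∣ q ^ k)
    have h1 : i ≠ 0 := by
      rintro rfl
      rw [pow_zero, orderOf_eq_one_iff] at hi
      exact hyC (mem_subgroupOf.1 ((QuotientGroup.eq_one_iff _).1 hi))
    exact ((dvd_pow_self q h1).trans (hi ▸ orderOf_dvd_natCard _))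
  · intro h
    obtain ⟨x, hx⟩ := exists_prime_orderOf_dvd_card' q h
    obtain ⟨⟨y, hy⟩, rfl⟩ := QuotientGroup.mk'_surjective C x
    obtain ⟨z, hz, hzq, hzo⟩ := exists_qPart (q := q) (QuotientGroup.mk' C) hy (j := 1)
      (by rw [pow_one]; exact hx)
    refine ⟨z, hz, hzq, fun hzC => ?_⟩
    have : QuotientGroup.mk' C ⟨z, hz⟩ = 1 := (QuotientGroup.eq_one_iff _).2 (mem_subgroupOf.2 hzC)
    rw [this, orderOf_one, pow_one] at hzo
    exact hq.out.ne_one hzo.symm

theorem relIndex_sup_dvd [Finite G] (J O : Subgroup G) [O.Normal] :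
    J.relIndex (J ⊔ O) ∣ Nat.card O := by
  refine ⟨Nat.card (J ⊓ O : Subgroup G), Nat.eq_of_mul_eq_mul_left (Nat.card_pos (α := J)) ?_⟩
  rw [← mul_assoc, ← Offender.card_sup_mul_card_inf (H := J) (N := O)
    (by rw [normalizer_eq_top]; exact le_top)]
  have h := relIndex_mul_relIndex ⊥ J (J ⊔ O) bot_le le_sup_left
  rw [relIndex_bot_left, relIndex_bot_left] at h
  rw [h]

/-- Image under conjugation. -/
theorem Moves.map_equiv {M : Type v} [Group M] {H : Subgroup G} (h : Moves q H) (e : G ≃* M) :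
    Moves q (H.map e.toMonoidHom) := by
  obtain ⟨y, hy, ⟨k, hk⟩, hyC⟩ := h
  refine ⟨e y, ?_, ⟨k, by rw [MulEquiv.orderOf_eq, hk]⟩, fun hC => hyC ?_⟩
  · rw [← map_equiv_normalizer_eq]
    exact mem_map_of_mem _ hy
  · refine mem_centralizer_iff.2 fun x hx => e.injective ?_
    rw [map_mul, map_mul]
    exact mem_centralizer_iff.1 hC (e x) (mem_map_of_mem _ hx)

theorem not_hasNPC_of_card [Finite G] [hp : Fact p.Prime] (h : ¬ Cfsg.HasNormalPComplement p G) :
    ¬ IsPGroup p G := by
  intro hG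
  obtain ⟨P⟩ : Nonempty (Sylow p G) := inferInstance
  refine h ⟨P, ⊥, inferInstance, ?_⟩
  rw [← P.3 (hG.to_subgroup ⊤) le_top]
  exact isComplement'_bot_top

/-- In a `{p, q}`-group a subgroup without a normal `p`-complement has a nontrivial `q`-element. -/
theorem exists_qElement [Finite G] [hp : Fact p.Prime] [hq : Fact q.Prime] {a b : ℕ}
    (hcard : Nat.card G = p ^ a * q ^ b) {K : Subgroup G}
    (h : ¬ Cfsg.HasNormalPComplement p K) : ∃ x ∈ K, x ≠ 1 ∧ ∃ k, orderOf x = q ^ k := by
  have hd : q ∣ Nat.card K := by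
    by_contra hd
    have h1 : (Nat.card K).Coprime (q ^ b) :=
      Nat.Coprime.pow_right b ((hq.out.coprime_iff_not_dvd.2 hd).symm)
    obtain ⟨i, -, hi⟩ := (Nat.dvd_prime_pow hp.out).1
      (h1.dvd_of_dvd_mul_right (hcard ▸ card_subgroup_dvd_card K))
    exact not_hasNPC_of_card h (IsPGroup.of_card hi)
  obtain ⟨x, hx⟩ := exists_prime_orderOf_dvd_card' q hd
  refine ⟨x, x.2, fun h1 => ?_, 1, by rw [Subgroup.orderOf_coe, hx, pow_one]⟩
  rw [show x = 1 from Subtype.ext h1, orderOf_one] at hx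
  exact hq.out.ne_one hx.symm

theorem not_involves_perm_four [Finite G] [hp : Fact p.Prime] [hq : Fact q.Prime] {a b : ℕ}
    (hcard : Nat.card G = p ^ a * q ^ b) (hp2 : p = 2) (hq3 : q ≠ 3) :
    ¬ Cfsg.Involves (Equiv.Perm (Fin 4)) G := by
  intro h
  obtain ⟨K, φ, hφ⟩ := PComplement.involves_iff.1 h
  have h24 : Nat.card (Equiv.Perm (Fin 4)) = 24 := by
    rw [Nat.card_eq_fintype_card, Fintype.card_perm, Fintype.card_fin]; rfl
  have h3 : 3 ∣ p ^ a * q ^ b := by
    rw [← hcard]
    exact (show (3 : ℕ) ∣ 24 by norm_num).trans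
      (h24 ▸ (card_dvd_of_surjective φ hφ).trans (card_subgroup_dvd_card K))
  rcases (Nat.Prime.dvd_mul Nat.prime_three).1 h3 with h3 | h3
  · have := (Nat.prime_dvd_prime_iff_eq Nat.prime_three hp.out).1 (Nat.prime_three.dvd_of_dvd_pow h3)
    omega
  · exact hq3 ((Nat.prime_dvd_prime_iff_eq Nat.prime_three hq.out).1
      (Nat.prime_three.dvd_of_dvd_pow h3)).symm

/-- The core lemma on a `{p, q}`-group. -/
theorem exists_moves_thompson_or_center [Finite G] [hp : Fact p.Prime] [hq : Fact q.Prime]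
    (hpq : p ≠ q) (h23 : ¬ (p = 2 ∧ q = 3)) {a b : ℕ} (hcard : Nat.card G = p ^ a * q ^ b)
    (T : Sylow p G) (H : Subgroup G) [H.Normal] (hHp : IsPGroup p H)
    (hcent : ∀ x : G, (∃ k, orderOf x = p ^ k) → x ∈ centralizer (H : Set G) → x ∈ H)
    (hy : ∃ y : G, (∃ k, orderOf y = q ^ k) ∧ y ∉ centralizer (H : Set G)) :
    ∃ z : G, (∃ k, orderOf z = q ^ k) ∧ z ∉ centralizer (H : Set G) ∧
      (z ∈ normalizer (Cfsg.thompsonSubgroupAOf (T : Subgroup G) : Set G) ∨
        z ∈ centralizer (((T : Subgroup G) ⊓ centralizer ((T : Subgroup G) : Set G) : Subgroup G) : Set G)) := by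
  set O := Cfsg.pCore q G with hO
  haveI hOn : O.Normal := PCore.pCore_normal
  have hOq : IsPGroup q O := PCore.isPGroup_pCore
  have hHO : H ⊓ O = ⊥ := inf_eq_bot_of_coprime (IsPGroup.coprime_card_of_ne p q hpq _ _ hHp hOq)
  have hOH : O ≤ centralizer (H : Set G) := fun o ho => mem_centralizer_iff.2 fun x hx =>
    (commute_of_normal_of_disjoint H O inferInstance inferInstance
      (disjoint_iff.2 hHO) x o hx ho)
  -- `q`-elements centralizing `H` lie in `O`
  have hCO : ∀ x : G, (∃ k, orderOf x = q ^ k) → x ∈ centralizer (H : Set G) → x ∈ O := by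
    intro x hxq hxC
    set C := centralizer (H : Set G) with hC
    set Z := (H ⊓ C).subgroupOf C with hZ
    have hZc : Z ≤ center C := fun z hz => mem_center_iff.2 fun c =>
      Subtype.ext ((mem_centralizer_iff.1 c.2 _ (mem_subgroupOf.1 hz).1).symm)
    haveI : Z.Normal := ⟨fun z hz g => by
      rw [mem_center_iff.1 (hZc hz) g, mul_inv_cancel_right]; exact hz⟩
    have hidx : ¬ p ∣ Z.index := by
      intro hd
      rw [index_eq_card] at hd
      obtain ⟨w, hw⟩ := exists_prime_orderOf_dvd_card' p hd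
      obtain ⟨⟨w, hwC⟩, rfl⟩ := QuotientGroup.mk'_surjective Z w
      obtain ⟨w', hw'C, hw'p, hw'o⟩ := exists_qPart (q := p) (QuotientGroup.mk' Z) hwC (j := 1)
        (by rw [pow_one]; exact hw)
      have : QuotientGroup.mk' Z ⟨w', hw'C⟩ = 1 := (QuotientGroup.eq_one_iff _).2
        (mem_subgroupOf.2 ⟨hcent w' hw'p hw'C, hw'C⟩)
      rw [this, orderOf_one, pow_one] at hw'o
      exact hp.out.ne_one hw'o.symm
    have hZp : IsPGroup p Z := (hHp.to_le inf_le_left).comap_of_injective _ C.subtype_injective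
    obtain ⟨e, he⟩ := hZp.exists_card_eq
    have hcop : (Nat.card Z).Coprime Z.index := by
      rw [he]; exact Nat.Coprime.pow_left e (hp.out.coprime_iff_not_dvd.2 hidx)
    obtain ⟨K, hK⟩ := exists_right_complement'_of_coprime hcop
    -- the complement is normal and is a q-group
    haveI hKn : K.Normal := ⟨fun k hk g => by
      obtain ⟨⟨⟨z, hz⟩, ⟨k', hk'⟩⟩, rfl⟩ := (hK.existsUnique g).exists
      have hzc := mem_center_iff.1 (hZc hz) (k' * k * k'⁻¹)
      have : z * k' * k * (z * k')⁻¹ = k' * k * k'⁻¹ := by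
        rw [show z * k' * k * (z * k')⁻¹ = z * (k' * k * k'⁻¹) * z⁻¹ by group, ← hzc,
          mul_inv_cancel_right]
      show z * k' * k * (z * k')⁻¹ ∈ K
      rw [this]
      exact K.mul_mem (K.mul_mem hk' hk) (K.inv_mem hk')⟩
    have hKidx : Z.index = Nat.card K := by
      have h1 := hK.card_mul_card
      rw [← Z.card_mul_index] at h1
      exact (Nat.eq_of_mul_eq_mul_left Nat.card_pos h1).symm
    have hKp : (Nat.card K).Coprime p := (hp.out.coprime_iff_not_dvd.2 (hKidx ▸ hidx)).symm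
    have hKq : IsPGroup q K := by
      have h1 : Nat.card K ∣ p ^ a * q ^ b :=
        (card_subgroup_dvd_card K).trans (hcard ▸ card_subgroup_dvd_card C)
      obtain ⟨i, -, hi⟩ := (Nat.dvd_prime_pow hq.out).1 ((hKp.pow_right a).dvd_of_dvd_mul_left h1)
      exact IsPGroup.of_card hi
    have hKchar : (K.map C.subtype) ≤ O := by
      haveI : C.Normal := normal_centralizer
      have hnd : ¬ q ∣ K.index := by
        intro hd
        have h1 := hK.card_mul_card
        rw [← K.card_mul_index, mul_comm (Nat.card K)] at h1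
        rw [← Nat.eq_of_mul_eq_mul_right Nat.card_pos h1, he] at hd
        exact hpq ((Nat.prime_dvd_prime_iff_eq hq.out hp.out).1 (hq.out.dvd_of_dvd_pow hd)).symm
      have hKchar : K.Characteristic := Sylow.characteristic_of_normal (hKq.toSylow hnd) hKn
      exact PCore.le_pCore (hKq.map C.subtype)
    refine hKchar ⟨⟨x, hxC⟩, ?_, rfl⟩
    have hxo : (orderOf (QuotientGroup.mk' K ⟨x, hxC⟩)).Coprime (Nat.card (C ⧸ K)) := by
      have h1 := hK.card_mul_card
      rw [← K.card_mul_index, mul_comm (Nat.card K)] at h1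
      rw [← index_eq_card, ← Nat.eq_of_mul_eq_mul_right Nat.card_pos h1, he]
      refine Nat.Coprime.pow_right e ((coprime_orderOf hpq hxq).coprime_dvd_left ?_)
      exact (orderOf_map_dvd _ _).trans (by rw [Subgroup.orderOf_mk])
    exact (QuotientGroup.eq_one_iff _).1 (orderOf_eq_one_iff.1
      (Nat.eq_one_of_dvd_coprimes hxo dvd_rfl (orderOf_dvd_natCard _)))
  -- the quotient by `O`
  set f := QuotientGroup.mk' O with hf
  have hfs : Function.Surjective f := QuotientGroup.mk'_surjective O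
  have hfT : ∀ x ∈ (T : Subgroup G), f x = 1 → x = 1 := fun x hx h => by
    have : x ∈ (T : Subgroup G) ⊓ O := ⟨hx, (QuotientGroup.eq_one_iff x).1 h⟩
    rwa [inf_eq_bot_of_coprime (IsPGroup.coprime_card_of_ne p q hpq _ _ T.2 hOq), mem_bot] at this
  set T' := T.mapSurjective hfs with hT'
  have hcard' : ∃ a' b', Nat.card (G ⧸ O) = p ^ a' * q ^ b' := by
    obtain ⟨k, l, hk, hl, he⟩ := Nat.dvd_mul.1 (hcard ▸ card_quotient_dvd_card O)
    obtain ⟨i, -, rfl⟩ := (Nat.dvd_prime_pow hp.out).1 hk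
    obtain ⟨j, -, rfl⟩ := (Nat.dvd_prime_pow hq.out).1 hl
    exact ⟨i, j, he.symm⟩
  obtain ⟨a', b', hcard'⟩ := hcard'
  have hNPC : ¬ Cfsg.HasNormalPComplement p (G ⧸ O) := by
    rintro ⟨S, L, hL, hLS⟩
    obtain ⟨e, he'⟩ := S.2.exists_card_eq
    have he : L.index = p ^ e := (IsComplement'.index_eq_card hLS.symm).trans he'
    have hLp : ¬ p ∣ Nat.card L := IsComplement'.index_eq_card hLS ▸ S.not_dvd_index
    obtain ⟨i, -, hi⟩ := (Nat.dvd_prime_pow hq.out).1
      ((Nat.Coprime.pow_right a' (hp.out.coprime_iff_not_dvd.2 hLp).symm).dvd_of_dvd_mul_left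
        (hcard' ▸ card_subgroup_dvd_card L))
    have hLO : L = ⊥ := by
      have hsub : L.comap f ≤ O := by
        haveI := hL
        refine PCore.le_pCore ?_
        have hk : IsPGroup q f.ker := by rw [hf, QuotientGroup.ker_mk']; exact hOq
        exact (IsPGroup.of_card hi).comap_of_ker_isPGroup f hk
      rw [← map_comap_eq_self_of_surjective hfs L, eq_bot_iff]
      refine (map_mono hsub).trans (le_of_eq ?_)
      rw [hf, QuotientGroup.map_mk'_self]
    obtain ⟨y, hyq, hyC⟩ := hy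
    apply hyC
    refine hOH ((QuotientGroup.eq_one_iff y).1 (orderOf_eq_one_iff.1
      (Nat.eq_one_of_dvd_coprimes (Nat.Coprime.pow_right e (coprime_orderOf hpq hyq))
        (orderOf_map_dvd f y) ?_)))
    rw [← he, hLO, index_bot]
    exact orderOf_dvd_natCard _
  have hlift : ∀ {K : Subgroup G} {w : G ⧸ O}, w ≠ 1 → (∃ k, orderOf w = q ^ k) → w ∈ K.map f →
      ∃ z ∈ K, (∃ k, orderOf z = q ^ k) ∧ z ∉ centralizer (H : Set G) := by
    rintro K _ hw1 ⟨k, hk⟩ ⟨x, hx, rfl⟩
    obtain ⟨z, hz, hzq, hzo⟩ := exists_qPart (f.comp K.subtype) hx (j := k) hk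
    refine ⟨z, hz, hzq, fun hC => hw1 ?_⟩
    have : f z = 1 := (QuotientGroup.eq_one_iff z).2 (hCO z hzq hC)
    rw [show (f.comp K.subtype) ⟨z, hz⟩ = f z from rfl, this, orderOf_one, ← hk] at hzo
    exact orderOf_eq_one_iff.1 hzo.symm
  have key : ¬ Cfsg.HasNormalPComplement p
        ↥(normalizer (Cfsg.thompsonSubgroupAOf (T' : Subgroup (G ⧸ O)) : Set (G ⧸ O))) ∨
      ¬ Cfsg.HasNormalPComplement p
        ↥(centralizer ((PComplement.zOf (T' : Subgroup (G ⧸ O))) : Set (G ⧸ O))) := by
    by_contra hcon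
    push Not at hcon
    apply hNPC
    by_cases hp2 : p = 2
    · exact PComplement.thompsonATwoComplement hp2
        (not_involves_perm_four hcard' hp2 fun h => h23 ⟨hp2, h⟩) T' hcon.1 hcon.2
    · exact PComplement.thompsonAComplement hp2 T' hcon.1 hcon.2
  have hT'eq : (T' : Subgroup (G ⧸ O)) = (T : Subgroup G).map f := rfl
  rcases key with h | h
  · obtain ⟨w, hw, hw1, hwq⟩ := exists_qElement hcard' h
    rw [hT'eq, Replacement.thompsonSubgroupAOf_map_injOn f hfT] at hw
    -- Frattini: the preimage of the normalizer is `N(J) O`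
    set J := Cfsg.thompsonSubgroupAOf (T : Subgroup G) with hJ
    have hJT : J ≤ (T : Subgroup G) := PGroup.thompsonSubgroupAOf_le _
    have hwN : w ∈ (normalizer (J : Set G)).map f := by
      obtain ⟨x, rfl⟩ := hfs w
      set Y := (normalizer ((J.map f : Subgroup (G ⧸ O)) : Set (G ⧸ O))).comap f with hY
      have hJY : J ≤ Y := map_le_iff_le_comap.1 le_normalizer
      -- `J` is a Sylow subgroup of `J O`, which is normal in `Y`
      set JO := J ⊔ O with hJO
      have hJOY : JO ≤ Y := sup_le hJY fun o ho => by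
        rw [hY, mem_comap, hf, QuotientGroup.mk'_apply, (QuotientGroup.eq_one_iff o).2 ho]
        exact one_mem _
      have hYn : Y ≤ normalizer (JO : Set G) := by
        have e : JO = (J.map f).comap f := by rw [comap_map_eq, hf, QuotientGroup.ker_mk']
        rw [hY, e]
        exact le_normalizer_comap f
      haveI : (JO.subgroupOf Y).Normal := normal_subgroupOf_iff_le_normalizer hJOY |>.2 hYn
      set JO' := JO.subgroupOf Y
      have hJp : IsPGroup p ((J.subgroupOf Y).subgroupOf JO') :=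
        ((T.2.to_le hJT).comap_of_injective _ Y.subtype_injective).comap_of_injective _
          JO'.subtype_injective
      have hnd : ¬ p ∣ ((J.subgroupOf Y).subgroupOf JO').index := by
        show ¬ p ∣ (J.subgroupOf Y).relIndex (JO.subgroupOf Y)
        rw [relIndex_subgroupOf hJOY, hJO]
        intro hd
        replace hd := hd.trans (relIndex_sup_dvd J O)
        obtain ⟨n, hn⟩ := hOq.exists_card_eq
        have := hp.out.dvd_of_dvd_pow (n := n) (hn ▸ hd)
        exact hpq ((Nat.prime_dvd_prime_iff_eq hp.out hq.out).1 this)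
      have hfr := Sylow.normalizer_sup_eq_top (hJp.toSylow hnd)
      have hle : J.subgroupOf Y ≤ JO' := fun z hz => mem_subgroupOf.2 (mem_sup_left hz)
      rw [IsPGroup.toSylow_coe, subgroupOf_map_subtype, inf_eq_left.2 hle] at hfr
      have hx : (⟨x, hw⟩ : Y) ∈ normalizer ((J.subgroupOf Y : Subgroup Y) : Set Y) ⊔ JO' := by
        rw [hfr]; trivial
      have hle2 : (normalizer ((J.subgroupOf Y : Subgroup Y) : Set Y)).map Y.subtype ≤
          normalizer (J : Set G) := by
        refine (le_normalizer_map Y.subtype).trans (le_of_eq ?_)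
        rw [subgroupOf_map_subtype, inf_eq_left.2 hJY]
      have hxG : x ∈ normalizer (J : Set G) ⊔ O := by
        have h1 : x ∈ (normalizer ((J.subgroupOf Y : Subgroup Y) : Set Y) ⊔ JO').map Y.subtype :=
          ⟨⟨x, hw⟩, hx, rfl⟩
        rw [Subgroup.map_sup, subgroupOf_map_subtype, inf_eq_left.2 hJOY] at h1
        exact sup_le (hle2.trans le_sup_left) (sup_le (le_normalizer.trans le_sup_left) le_sup_right) h1
      have h2 : f x ∈ (normalizer (J : Set G) ⊔ O).map f := mem_map_of_mem f hxG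
      rwa [Subgroup.map_sup, hf, QuotientGroup.map_mk'_self, sup_bot_eq] at h2
    obtain ⟨z, hz, hzq, hzC⟩ := hlift hw1 hwq hwN
    exact ⟨z, hzq, hzC, Or.inl hz⟩
  · obtain ⟨w, hw, hw1, hwq⟩ := exists_qElement hcard' h
    rw [hT'eq, show PComplement.zOf ((T : Subgroup G).map f) = (PComplement.zOf (T : Subgroup G)).map f
      from (Replacement.map_inf_centralizer_injOn f hfT le_rfl).symm] at hw
    set Z := PComplement.zOf (T : Subgroup G) with hZ
    have hZT : Z ≤ (T : Subgroup G) := inf_le_left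
    have hwC : w ∈ (centralizer (Z : Set G)).map f := by
      obtain ⟨x, rfl⟩ := hfs w
      set Y := (centralizer ((Z.map f : Subgroup (G ⧸ O)) : Set (G ⧸ O))).comap f with hY
      have hZcomm : ∀ z ∈ Z, ∀ z' ∈ Z, z * z' = z' * z := fun z hz z' hz' =>
        (mem_centralizer_iff.1 hz'.2 z hz.1)
      have hZY : Z ≤ Y := fun z hz => mem_comap.2 (mem_centralizer_iff.2 (by
        rintro _ ⟨z', hz', rfl⟩
        rw [← map_mul, ← map_mul, hZcomm z' hz' z hz]))
      set ZO := Z ⊔ O with hZO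
      have hOY : O ≤ Y := fun o ho => by
        rw [hY, mem_comap, hf, QuotientGroup.mk'_apply, (QuotientGroup.eq_one_iff o).2 ho]
        exact one_mem _
      have hYn : Y ≤ normalizer (ZO : Set G) := by
        have e : ZO = (Z.map f).comap f := by rw [comap_map_eq, hf, QuotientGroup.ker_mk']
        rw [hY, e]
        exact (comap_mono (centralizer_le_normalizer _)).trans (le_normalizer_comap f)
      have hZOY : ZO ≤ Y := sup_le hZY hOY
      haveI : (ZO.subgroupOf Y).Normal := normal_subgroupOf_iff_le_normalizer hZOY |>.2 hYn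
      set ZO' := ZO.subgroupOf Y
      have hJp : IsPGroup p ((Z.subgroupOf Y).subgroupOf ZO') :=
        ((T.2.to_le hZT).comap_of_injective _ Y.subtype_injective).comap_of_injective _
          ZO'.subtype_injective
      have hnd : ¬ p ∣ ((Z.subgroupOf Y).subgroupOf ZO').index := by
        show ¬ p ∣ (Z.subgroupOf Y).relIndex (ZO.subgroupOf Y)
        rw [relIndex_subgroupOf hZOY, hZO]
        intro hd
        replace hd := hd.trans (relIndex_sup_dvd Z O)
        obtain ⟨n, hn⟩ := hOq.exists_card_eq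
        have := hp.out.dvd_of_dvd_pow (n := n) (hn ▸ hd)
        exact hpq ((Nat.prime_dvd_prime_iff_eq hp.out hq.out).1 this)
      have hfr := Sylow.normalizer_sup_eq_top (hJp.toSylow hnd)
      have hle : Z.subgroupOf Y ≤ ZO' := fun z hz => mem_subgroupOf.2 (mem_sup_left hz)
      rw [IsPGroup.toSylow_coe, subgroupOf_map_subtype, inf_eq_left.2 hle] at hfr
      have hle2 : (normalizer ((Z.subgroupOf Y : Subgroup Y) : Set Y)).map Y.subtype ≤
          centralizer (Z : Set G) := by
        rintro _ ⟨n, hn, rfl⟩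
        refine mem_centralizer_iff.2 fun z hz => ?_
        have h1 := (mem_normalizer_iff.1 hn ⟨z, hZY hz⟩).1 hz
        have h2 : f ((n : G) * z * (n : G)⁻¹ * z⁻¹) = 1 := by
          have h3 := mem_centralizer_iff.1 (mem_comap.1 n.2) (f z) (mem_map_of_mem f hz)
          rw [map_mul, map_mul, map_mul, map_inv, map_inv, ← h3, mul_inv_cancel_right,
            mul_inv_cancel]
        have h1' : (n : G) * z * (n : G)⁻¹ ∈ Z := h1
        have h4 : (n : G) * z * (n : G)⁻¹ * z⁻¹ = 1 := hfT _ (hZT (mul_mem h1' (inv_mem hz))) h2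
        rw [mul_inv_eq_one, mul_inv_eq_iff_eq_mul] at h4
        exact h4.symm
      have hx : (⟨x, hw⟩ : Y) ∈ normalizer ((Z.subgroupOf Y : Subgroup Y) : Set Y) ⊔ ZO' := by
        rw [hfr]; trivial
      have hxG : x ∈ centralizer (Z : Set G) ⊔ O := by
        have h1 : x ∈ (normalizer ((Z.subgroupOf Y : Subgroup Y) : Set Y) ⊔ ZO').map Y.subtype :=
          ⟨⟨x, hw⟩, hx, rfl⟩
        rw [Subgroup.map_sup, subgroupOf_map_subtype, inf_eq_left.2 hZOY] at h1
        exact sup_le (hle2.trans le_sup_left)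
          (sup_le (fun z hz => mem_sup_left (mem_centralizer_iff.2 fun z' hz' => hZcomm z' hz' z hz))
            le_sup_right) h1
      have h2 : f x ∈ (centralizer (Z : Set G) ⊔ O).map f := mem_map_of_mem f hxG
      rwa [Subgroup.map_sup, hf, QuotientGroup.map_mk'_self, sup_bot_eq] at h2
    obtain ⟨z, hz, hzq, hzC⟩ := hlift hw1 hwq hwC
    exact ⟨z, hzq, hzC, Or.inr hz⟩

/-- A Sylow `p`-subgroup `R` of `C(H)` makes `H` centric without losing `T`. -/
theorem exists_centric [Finite G] [hp : Fact p.Prime] [hq : Fact q.Prime] (hpq : p ≠ q)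
    {H T : Subgroup G} (hH : IsPGroup p H) (hT : IsPGroup p T) (hTH : T ≤ normalizer (H : Set G))
    (hm : Moves q H) :
    ∃ H' : Subgroup G, IsPGroup p H' ∧ T ≤ normalizer (H' : Set G) ∧ Moves q H' ∧
      ∀ x : G, (∃ k, orderOf x = p ^ k) → x ∈ centralizer (H' : Set G) → x ∈ H' := by
  set N := normalizer (H : Set G) with hN
  set C := centralizer (H : Set G) with hC
  have hCN : C ≤ N := centralizer_le_normalizer _
  haveI hCn : (C.subgroupOf N).Normal :=
    normal_subgroupOf_iff_le_normalizer hCN |>.2 (Balance.normalizer_le_normalizer_centralizer _)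
  obtain ⟨S, hS⟩ := (hT.comap_of_injective N.subtype N.subtype_injective).exists_le_sylow
  obtain ⟨R₀, hR₀⟩ := Offender.exists_sylow_eq_inf S (C.subgroupOf N)
  set R' := (S : Subgroup N) ⊓ C.subgroupOf N with hR'
  set R := R'.map N.subtype with hR
  have hRC : R ≤ C := (map_mono inf_le_right).trans (map_comap_le _ _)
  have hRp : IsPGroup p R := (S.2.to_le inf_le_left).map _
  have hTR : T ≤ normalizer (R : Set G) := by
    have h1 : (S : Subgroup N) ≤ normalizer ((R' : Subgroup N) : Set N) := by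
      refine (le_inf le_normalizer ?_).trans inf_normalizer_le_normalizer_inf
      rw [normalizer_eq_top_iff.2 hCn]; exact le_top
    intro t ht
    exact le_normalizer_map N.subtype (mem_map_of_mem N.subtype (h1 (hS (x := ⟨t, hTH ht⟩) ht)))
  have hHR : H ≤ normalizer (R : Set G) := fun x hx => centralizer_le_normalizer _
    (mem_centralizer_iff.2 fun r hr => (mem_centralizer_iff.1 (hRC hr) x hx).symm)
  refine ⟨H ⊔ R, hH.to_sup_of_normal_right' hRp hHR, ?_, ?_, ?_⟩
  · exact le_trans (le_inf hTH hTR) (normalizer_inf_normalizer_le_normalizer_sup H R)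
  · -- Frattini in `N`
    obtain ⟨y, hy, ⟨k, hk⟩, hyC⟩ := hm
    have hfr := Sylow.normalizer_sup_eq_top R₀
    rw [hR₀] at hfr
    have h1 : (⟨y, hy⟩ : N) ∈ normalizer ((R' : Subgroup N) : Set N) ⊔ C.subgroupOf N := by
      rw [hfr]; trivial
    rw [← SetLike.mem_coe, coe_mul_of_left_le_normalizer_right _ _
      (by rw [normalizer_eq_top_iff.2 hCn]; exact le_top)] at h1
    obtain ⟨n, hn, c, hc, hnc⟩ := h1
    have e : QuotientGroup.mk' (C.subgroupOf N) n = QuotientGroup.mk' (C.subgroupOf N) ⟨y, hy⟩ := by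
      rw [← hnc]
      show _ = QuotientGroup.mk' (C.subgroupOf N) (n * c)
      rw [map_mul, show QuotientGroup.mk' (C.subgroupOf N) c = 1 from (QuotientGroup.eq_one_iff c).2 hc,
        mul_one]
    obtain ⟨j, -, hj⟩ := (Nat.dvd_prime_pow hq.out).1
      (hk ▸ ((orderOf_map_dvd (QuotientGroup.mk' (C.subgroupOf N)) ⟨y, hy⟩).trans
        (by rw [Subgroup.orderOf_mk])) :
          orderOf (QuotientGroup.mk' (C.subgroupOf N) ⟨y, hy⟩) ∣ q ^ k)
    have hj0 : j ≠ 0 := by
      rintro rfl
      rw [pow_zero, orderOf_eq_one_iff] at hj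
      exact hyC (mem_subgroupOf.1 ((QuotientGroup.eq_one_iff _).1 hj))
    set K := (normalizer ((R' : Subgroup N) : Set N)).map N.subtype with hK
    have hKN : K ≤ N := map_subtype_le _
    have hnK : (n : G) ∈ K := mem_map_of_mem _ hn
    obtain ⟨z, hz, hzq, hzo⟩ := exists_qPart
      ((QuotientGroup.mk' (C.subgroupOf N)).comp (inclusion hKN)) hnK (j := j) (by
        rw [show ((QuotientGroup.mk' (C.subgroupOf N)).comp (inclusion hKN)) ⟨n, hnK⟩ =
          QuotientGroup.mk' (C.subgroupOf N) n from rfl, e, hj])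
    refine ⟨z, normalizer_inf_normalizer_le_normalizer_sup H R ⟨hKN hz, le_normalizer_map N.subtype hz⟩, hzq, fun hC' => ?_⟩
    have hzC : z ∈ C := centralizer_le (SetLike.coe_subset_coe.2 le_sup_left) hC'
    have h2 : ((QuotientGroup.mk' (C.subgroupOf N)).comp (inclusion hKN)) ⟨z, hz⟩ = 1 :=
      (QuotientGroup.eq_one_iff _).2 (mem_subgroupOf.2 hzC)
    rw [h2, orderOf_one] at hzo
    exact hj0 ((Nat.pow_eq_one.1 hzo.symm).resolve_left hq.out.one_lt.ne')
  · rintro x ⟨k, hk⟩ hxC
    refine mem_sup_right ?_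
    have hxH : x ∈ C := centralizer_le (SetLike.coe_subset_coe.2 le_sup_left) hxC
    set x' : C.subgroupOf N := ⟨⟨x, hCN hxH⟩, hxH⟩
    have hcomm : zpowers x' ≤ normalizer ((R₀ : Subgroup (C.subgroupOf N)) : Set (C.subgroupOf N)) := by
      rw [zpowers_le]
      refine centralizer_le_normalizer _ (mem_centralizer_iff.2 fun r hr => ?_)
      refine Subtype.ext (Subtype.ext ?_)
      have hr' : ((r : N) : G) ∈ R := by
        refine mem_map_of_mem N.subtype ?_
        rw [← hR₀]
        exact mem_map_of_mem _ hr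
      exact mem_centralizer_iff.1 hxC _ (mem_sup_right hr')
    have hxp : IsPGroup p (zpowers x') := IsPGroup.of_card (n := k) (by
      rw [Nat.card_zpowers, ← Subgroup.orderOf_coe, ← Subgroup.orderOf_coe]; exact hk)
    have h3 := R₀.3 (hxp.to_sup_of_normal_right' R₀.2 hcomm) le_sup_right
    have h4 : x' ∈ (R₀ : Subgroup (C.subgroupOf N)) := h3.le (mem_sup_left (mem_zpowers x'))
    have h5 : (x' : N) ∈ R' := by rw [← hR₀]; exact mem_map_of_mem _ h4
    exact mem_map_of_mem N.subtype h5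

end Cfsg.Agent.Automizer
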